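import Mathlib
import Cfsg.Agent.FastGrp
import Cfsg.Agent.Prune
set_option linter.all false
prune_inst 0x7f00000000000000000000000000000000000000000000000000000000000000000000000000000000000000000000000000000000000000000000000000000000000000000000000000000000000000003fffffffffffffffffffffffffffbeffbdffffffff
open scoped Cfsg.Agent.FastGrp

/-!
# S3519: Scott's lemma and the key lemma A1 (helper93)

* `scott'` : Scott's inequality with correction terms, for two arbitrary endomorphisms;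
* `scott`  : the version without fixed and cofixed vectors;
* `a1` : `S` perfect, `S = ⟨x, y⟩`, `x ^ 2 = 1`, `h` commuting with `ρ S`.
-/

set_option autoImplicit false

namespace Cfsg.Agent.FP3

open Module

section basic

variable {k W : Type*} [Field k] [AddCommGroup W] [Module k W]

/-- the fixed space of an endomorphism -/
def fixSp (u : Module.End k W) : Submodule k W := LinearMap.ker (u - 1)

/-- the space `[W, u]` -/
def comSp (u : Module.End k W) : Submodule k W := LinearMap.range (u - 1)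

/-- the `-1`-eigenspace of an endomorphism -/
def negSp (u : Module.End k W) : Submodule k W := LinearMap.ker (u + 1)

/-- the dimension of the fixed space -/
noncomputable def dfx (u : Module.End k W) : ℕ := finrank k (fixSp u)

theorem mem_fixSp {u : Module.End k W} {w : W} : w ∈ fixSp u ↔ u w = w := by
  rw [fixSp, LinearMap.mem_ker, LinearMap.sub_apply, Module.End.one_apply, sub_eq_zero]

theorem mem_negSp {u : Module.End k W} {w : W} : w ∈ negSp u ↔ u w = -w := by
  rw [negSp, LinearMap.mem_ker, LinearMap.add_apply, Module.End.one_apply, add_eq_zero_iff_eq_neg]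

theorem mem_comSp {u : Module.End k W} {w : W} : w ∈ comSp u ↔ ∃ v, u v - v = w := by
  simp only [comSp, LinearMap.mem_range, LinearMap.sub_apply, Module.End.one_apply]

theorem sub_mem_comSp (u : Module.End k W) (v : W) : u v - v ∈ comSp u := mem_comSp.2 ⟨v, rfl⟩

theorem comSp_le_negSp {u : Module.End k W} (hu : u * u = 1) : comSp u ≤ negSp u := by
  intro w hw
  obtain ⟨v, rfl⟩ := mem_comSp.1 hw
  rw [mem_negSp, map_sub, ← Module.End.mul_apply, hu, Module.End.one_apply, neg_sub]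

variable [FiniteDimensional k W]

theorem finrank_comSp_add_dfx (u : Module.End k W) : finrank k (comSp u) + dfx u = finrank k W :=
  LinearMap.finrank_range_add_finrank_ker (u - 1)

theorem dfx_le (u : Module.End k W) : dfx u ≤ finrank k W := Submodule.finrank_le _

theorem finrank_add_le_of_disjoint {A B : Submodule k W} (h : ∀ w, w ∈ A → w ∈ B → w = 0) :
    finrank k A + finrank k B ≤ finrank k W :=
  Submodule.finrank_add_finrank_le_of_disjoint (Submodule.disjoint_def.2 h)

/-- **Scott's lemma** with correction terms. -/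
theorem scott' (u v : Module.End k W) :
    dfx u + dfx v + dfx (u * v) + finrank k ↥(comSp u ⊔ comSp v) ≤
      2 * finrank k W + finrank k ↥(fixSp u ⊓ fixSp v) := by
  let φ : ↥(fixSp (u * v)) →ₗ[k] W := (v - 1) ∘ₗ (fixSp (u * v)).subtype
  have hr : LinearMap.range φ ≤ comSp u ⊓ comSp v := by
    rintro _ ⟨⟨w, hw⟩, rfl⟩
    refine ⟨?_, ⟨w, rfl⟩⟩
    have hw' : u (v w) = w := mem_fixSp.1 hw
    refine mem_comSp.2 ⟨- v w, ?_⟩
    change u (- v w) - (- v w) = v w - w
    rw [map_neg, hw']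
    abel
  have hk : (LinearMap.ker φ).map (fixSp (u * v)).subtype ≤ fixSp u ⊓ fixSp v := by
    rintro _ ⟨⟨w, hw⟩, hwk, rfl⟩
    have h2 : v w = w := sub_eq_zero.1 (LinearMap.mem_ker.1 hwk)
    have hw' : u (v w) = w := mem_fixSp.1 hw
    rw [h2] at hw'
    exact ⟨mem_fixSp.2 hw', mem_fixSp.2 h2⟩
  have h1 := LinearMap.finrank_range_add_finrank_ker φ
  have h2 := Submodule.finrank_mono hr
  have h3 := Submodule.finrank_mono hk
  rw [Submodule.finrank_map_subtype_eq] at h3
  have h4 := Submodule.finrank_sup_add_finrank_inf_eq (comSp u) (comSp v)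
  have h5 := finrank_comSp_add_dfx u
  have h6 := finrank_comSp_add_dfx v
  have h7 : dfx (u * v) = finrank k ↥(fixSp (u * v)) := rfl
  omega

/-- **Scott's lemma** with correction terms `dim (fix)` and `dim (cofix)`. -/
theorem scott_corr (u v : Module.End k W) :
    dfx u + dfx v + dfx (u * v) ≤
      finrank k W + finrank k ↥(fixSp u ⊓ fixSp v) + finrank k (W ⧸ (comSp u ⊔ comSp v)) := by
  have h1 := scott' u v
  have h2 := Submodule.finrank_quotient_add_finrank (comSp u ⊔ comSp v)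
  omega

/-- **Scott's lemma.** -/
theorem scott (u v : Module.End k W) (hf : ∀ w, u w = w → v w = w → w = 0) (hc : comSp u ⊔ comSp v = ⊤) :
    dfx u + dfx v + dfx (u * v) ≤ finrank k W := by
  have h1 := scott' u v
  have h2 : fixSp u ⊓ fixSp v = ⊥ := by
    rw [eq_bot_iff]
    intro w hw
    exact hf w (mem_fixSp.1 hw.1) (mem_fixSp.1 hw.2)
  rw [hc, h2, finrank_top, finrank_bot] at h1
  omega

end basic

section perfect

variable {k W : Type*} [Field k] [AddCommGroup W] [Module k W] {S : Type*} [Group S]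

theorem rep_inv_apply (ρ : Representation k S W) (s : S) (w : W) : ρ s⁻¹ (ρ s w) = w := by
  rw [← Module.End.mul_apply, ← map_mul, inv_mul_cancel, map_one, Module.End.one_apply]

theorem rep_apply_inv (ρ : Representation k S W) (s : S) (w : W) : ρ s (ρ s⁻¹ w) = w := by
  rw [← Module.End.mul_apply, ← map_mul, mul_inv_cancel, map_one, Module.End.one_apply]

theorem rep_mul_apply (ρ : Representation k S W) (s t : S) (w : W) : ρ (s * t) w = ρ s (ρ t w) := by
  rw [map_mul, Module.End.mul_apply]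

theorem unit_apply_inv (c : (Module.End k W)ˣ) (w : W) :
    (c : Module.End k W) (((c⁻¹ : (Module.End k W)ˣ) : Module.End k W) w) = w := by
  rw [← Module.End.mul_apply, ← Units.val_mul, mul_inv_cancel, Units.val_one, Module.End.one_apply]

theorem unit_inv_apply (c : (Module.End k W)ˣ) (w : W) :
    ((c⁻¹ : (Module.End k W)ˣ) : Module.End k W) ((c : Module.End k W) w) = w := by
  rw [← Module.End.mul_apply, ← Units.val_mul, inv_mul_cancel, Units.val_one, Module.End.one_apply]

theorem all_of_gen {x y : S} (hxy : Subgroup.closure ({x, y} : Set S) = ⊤) {P : S → Prop} (hx : P x) (hy : P y)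
    (h1 : P 1) (hmul : ∀ a b, P a → P b → P (a * b)) (hinv : ∀ a, P a → P a⁻¹) (g : S) : P g := by
  have hg : g ∈ Subgroup.closure ({x, y} : Set S) := by rw [hxy]; exact Subgroup.mem_top g
  induction hg using Subgroup.closure_induction with
  | mem z hz =>
    rcases hz with rfl | rfl
    · exact hx
    · exact hy
  | one => exact h1
  | mul a b _ _ ha hb => exact hmul a b ha hb
  | inv a _ ha => exact hinv a ha

theorem all_of_perfect (hS : commutator S = ⊤) {P : S → Prop} (hc : ∀ a b : S, P (a * b * (b * a)⁻¹))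
    (h1 : P 1) (hmul : ∀ a b, P a → P b → P (a * b)) (hinv : ∀ a, P a → P a⁻¹) (g : S) : P g := by
  let K : Subgroup S :=
    { carrier := {s | P s}
      one_mem' := h1
      mul_mem' := fun {a b} ha hb => hmul a b ha hb
      inv_mem' := fun {a} ha => hinv a ha }
  have hle : commutator S ≤ K := by
    rw [commutator_def, Subgroup.commutator_le]
    intro a _ b _
    have e : a * b * a⁻¹ * b⁻¹ = a * b * (b * a)⁻¹ := by group
    rw [commutatorElement_def, e]
    exact hc a b
  rw [hS] at hle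
  exact hle (Subgroup.mem_top g)

/-- a perfect group whose generators act on a subspace as commuting operators acts trivially -/
theorem triv_sub (hS : commutator S = ⊤) {x y : S} (hxy : Subgroup.closure ({x, y} : Set S) = ⊤)
    (ρ : Representation k S W) (C : Subgroup (Module.End k W)ˣ) (hC : ∀ c ∈ C, ∀ d ∈ C, c * d = d * c)
    (U : Submodule k W) (hU : ∀ c ∈ C, ∀ w ∈ U, (c : Module.End k W) w ∈ U)
    (hx : ∃ c ∈ C, ∀ w ∈ U, ρ x w = (c : Module.End k W) w)
    (hy : ∃ c ∈ C, ∀ w ∈ U, ρ y w = (c : Module.End k W) w) (s : S) : ∀ w ∈ U, ρ s w = w := by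
  have h1 : ∀ s : S, ∃ c ∈ C, ∀ w ∈ U, ρ s w = (c : Module.End k W) w := by
    refine all_of_gen hxy hx hy ⟨1, C.one_mem, fun w _ => by rw [map_one, Units.val_one]⟩ ?_ ?_
    · rintro a b ⟨c, hc, ha⟩ ⟨d, hd, hb⟩
      refine ⟨c * d, C.mul_mem hc hd, fun w hw => ?_⟩
      rw [rep_mul_apply, hb w hw, ha _ (hU d hd w hw), Units.val_mul, Module.End.mul_apply]
    · rintro a ⟨c, hc, ha⟩
      refine ⟨c⁻¹, C.inv_mem hc, fun w hw => ?_⟩
      have h2 := ha _ (hU _ (C.inv_mem hc) w hw)
      rw [unit_apply_inv] at h2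
      conv_lhs => rw [← h2]
      rw [rep_inv_apply]
  have h2 : ∀ s : S, ∀ w ∈ U, ρ s w ∈ U := by
    intro s w hw
    obtain ⟨c, hc, h⟩ := h1 s
    rw [h w hw]
    exact hU c hc w hw
  have h3 : ∀ a b : S, ∀ w ∈ U, ρ (a * b) w = ρ (b * a) w := by
    intro a b w hw
    obtain ⟨c, hc, ha⟩ := h1 a
    obtain ⟨d, hd, hb⟩ := h1 b
    rw [rep_mul_apply, rep_mul_apply, hb w hw, ha w hw, ha _ (hU d hd w hw), hb _ (hU c hc w hw),
      ← Module.End.mul_apply, ← Module.End.mul_apply, ← Units.val_mul, ← Units.val_mul, hC c hc d hd]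
  refine all_of_perfect hS (P := fun s => ∀ w ∈ U, ρ s w = w) ?_ ?_ ?_ ?_ s
  · intro a b w hw
    rw [rep_mul_apply, h3 a b _ (h2 _ w hw), rep_apply_inv]
  · intro w _
    rw [map_one, Module.End.one_apply]
  · intro a b ha hb w hw
    rw [rep_mul_apply, hb w hw, ha w hw]
  · intro a ha w hw
    conv_lhs => rw [← ha w hw]
    rw [rep_inv_apply]

/-- the same for a quotient -/
theorem triv_quot (hS : commutator S = ⊤) {x y : S} (hxy : Subgroup.closure ({x, y} : Set S) = ⊤)
    (ρ : Representation k S W) (C : Subgroup (Module.End k W)ˣ) (hC : ∀ c ∈ C, ∀ d ∈ C, c * d = d * c)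
    (U : Submodule k W) (hU : ∀ c ∈ C, ∀ w ∈ U, (c : Module.End k W) w ∈ U)
    (hx : ∃ c ∈ C, ∀ w, ρ x w - (c : Module.End k W) w ∈ U)
    (hy : ∃ c ∈ C, ∀ w, ρ y w - (c : Module.End k W) w ∈ U) (s : S) : ∀ w, ρ s w - w ∈ U := by
  have h0 : ∀ a : S, (∃ c ∈ C, ∀ w, ρ a w - (c : Module.End k W) w ∈ U) → ∀ w ∈ U, ρ a w ∈ U := by
    rintro a ⟨c, hc, ha⟩ w hw
    have := U.add_mem (ha w) (hU c hc w hw)
    rwa [sub_add_cancel] at this
  have h1 : ∀ s : S, ∃ c ∈ C, ∀ w, ρ s w - (c : Module.End k W) w ∈ U := by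
    refine all_of_gen hxy hx hy ⟨1, C.one_mem, fun w => by rw [map_one, Units.val_one, sub_self]; exact U.zero_mem⟩
      ?_ ?_
    · rintro a b ⟨c, hc, ha⟩ ⟨d, hd, hb⟩
      refine ⟨c * d, C.mul_mem hc hd, fun w => ?_⟩
      have := U.add_mem (h0 a ⟨c, hc, ha⟩ _ (hb w)) (ha ((d : Module.End k W) w))
      rw [map_sub, sub_add_sub_cancel] at this
      rwa [rep_mul_apply, Units.val_mul, Module.End.mul_apply]
    · rintro a ⟨c, hc, ha⟩
      refine ⟨c⁻¹, C.inv_mem hc, fun w => ?_⟩
      have h2 := U.neg_mem (hU _ (C.inv_mem hc) _ (ha (ρ a⁻¹ w)))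
      rwa [rep_apply_inv, map_sub, unit_inv_apply, neg_sub] at h2
  have h2 : ∀ s : S, ∀ w ∈ U, ρ s w ∈ U := fun s => h0 s (h1 s)
  have h3 : ∀ a b : S, ∀ w, ρ (a * b) w - ρ (b * a) w ∈ U := by
    have h4 : ∀ (a b : S) (c d : (Module.End k W)ˣ), (∀ w, ρ a w - (c : Module.End k W) w ∈ U) →
        (∀ w, ρ b w - (d : Module.End k W) w ∈ U) →
        ∀ w, ρ (a * b) w - ((c * d : (Module.End k W)ˣ) : Module.End k W) w ∈ U := by
      intro a b c d ha hb w
      have := U.add_mem (h2 a _ (hb w)) (ha ((d : Module.End k W) w))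
      rw [map_sub, sub_add_sub_cancel] at this
      rwa [rep_mul_apply, Units.val_mul, Module.End.mul_apply]
    intro a b w
    obtain ⟨c, hc, ha⟩ := h1 a
    obtain ⟨d, hd, hb⟩ := h1 b
    have h5 := U.sub_mem (h4 a b c d ha hb w) (h4 b a d c hb ha w)
    rwa [hC c hc d hd, sub_sub_sub_cancel_right] at h5
  refine all_of_perfect hS (P := fun s => ∀ w, ρ s w - w ∈ U) ?_ ?_ ?_ ?_ s
  · intro a b w
    have := h3 a b (ρ (b * a)⁻¹ w)
    rwa [rep_apply_inv, ← rep_mul_apply] at this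
  · intro w
    rw [map_one, Module.End.one_apply, sub_self]
    exact U.zero_mem
  · intro a b ha hb w
    have := U.add_mem (ha (ρ b w)) (hb w)
    rwa [sub_add_sub_cancel, ← rep_mul_apply] at this
  · intro a ha w
    have := U.neg_mem (ha (ρ a⁻¹ w))
    rwa [rep_apply_inv, neg_sub] at this

/-- the centre of the centraliser of `ρ S` and `h` -/
def cenC (ρ : Representation k S W) (h : (Module.End k W)ˣ) : Subgroup (Module.End k W)ˣ :=
  Subgroup.centralizer (insert h (Set.range ρ.asGroupHom)) ⊓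
    Subgroup.centralizer ↑(Subgroup.centralizer (insert h (Set.range ρ.asGroupHom)))

theorem cenC_comm (ρ : Representation k S W) (h : (Module.End k W)ˣ) :
    ∀ c ∈ cenC ρ h, ∀ d ∈ cenC ρ h, c * d = d * c := fun _ hc _ hd =>
  Subgroup.mem_centralizer_iff.1 hd.2 _ hc.1

theorem cenC_rep {ρ : Representation k S W} {h c : (Module.End k W)ˣ} (hc : c ∈ cenC ρ h) (s : S) (w : W) :
    ρ s ((c : Module.End k W) w) = (c : Module.End k W) (ρ s w) := by
  have h1 := Subgroup.mem_centralizer_iff.1 hc.1 (ρ.asGroupHom s) (Set.mem_insert_of_mem _ ⟨s, rfl⟩)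
  have h2 := congrArg (fun z : (Module.End k W)ˣ => (z : Module.End k W) w) h1
  simpa only [Units.val_mul, Module.End.mul_apply, Representation.asGroupHom_apply] using h2

theorem cenC_h {ρ : Representation k S W} {h c : (Module.End k W)ˣ} (hc : c ∈ cenC ρ h) (w : W) :
    (h : Module.End k W) ((c : Module.End k W) w) = (c : Module.End k W) ((h : Module.End k W) w) := by
  have h1 := Subgroup.mem_centralizer_iff.1 hc.1 h (Set.mem_insert _ _)
  have h2 := congrArg (fun z : (Module.End k W)ˣ => (z : Module.End k W) w) h1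
  simpa only [Units.val_mul, Module.End.mul_apply] using h2

theorem neg_one_mem_cenC (ρ : Representation k S W) (h : (Module.End k W)ˣ) : -1 ∈ cenC ρ h :=
  ⟨Subgroup.mem_centralizer_iff.2 fun g _ => by rw [mul_neg_one, neg_one_mul],
    Subgroup.mem_centralizer_iff.2 fun g _ => by rw [mul_neg_one, neg_one_mul]⟩

theorem h_mem_cenC {ρ : Representation k S W} {h : (Module.End k W)ˣ}
    (hh : ∀ s, ρ s * (h : Module.End k W) = (h : Module.End k W) * ρ s) : h ∈ cenC ρ h := by
  refine ⟨Subgroup.mem_centralizer_iff.2 ?_, Subgroup.mem_centralizer_iff.2 fun g hg => ?_⟩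
  · rintro g (rfl | ⟨s, rfl⟩)
    · rfl
    · apply Units.ext
      rw [Units.val_mul, Units.val_mul, Representation.asGroupHom_apply, hh]
  · exact (Subgroup.mem_centralizer_iff.1 hg h (Set.mem_insert _ _)).symm

/-- no vector is fixed by `± ρ x` and `ρ y * h` -/
theorem no_common (hS : commutator S = ⊤) {x y : S} (hxy : Subgroup.closure ({x, y} : Set S) = ⊤)
    (ρ : Representation k S W) (hfix : ∀ w, (∀ s, ρ s w = w) → w = 0) {h : Module.End k W} (hu : IsUnit h)
    (hh : ∀ s, ρ s * h = h * ρ s) (w : W) (hx : ρ x w = w ∨ ρ x w = -w) (hy : (ρ y * h) w = w) : w = 0 := by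
  obtain ⟨h, rfl⟩ := hu
  have hy' : ∃ c ∈ cenC ρ h, ∀ w, (ρ y * (h : Module.End k W)) w = w → ρ y w = (c : Module.End k W) w := by
    refine ⟨h⁻¹, (cenC ρ h).inv_mem (h_mem_cenC hh), fun w hw => ?_⟩
    rw [hh, Module.End.mul_apply] at hw
    conv_rhs => rw [← hw]
    rw [unit_inv_apply]
  obtain ⟨c, hc, hy'⟩ := hy'
  have hinv : ∀ c ∈ cenC ρ h, ∀ w ∈ fixSp (ρ y * (h : Module.End k W)),
      (c : Module.End k W) w ∈ fixSp (ρ y * (h : Module.End k W)) := by
    intro c hc w hw
    rw [mem_fixSp, Module.End.mul_apply] at hw ⊢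
    rw [cenC_h hc, cenC_rep hc, hw]
  apply hfix
  intro s
  rcases hx with hx | hx
  · refine triv_sub hS hxy ρ (cenC ρ h) (cenC_comm ρ h) (fixSp (ρ x) ⊓ fixSp (ρ y * (h : Module.End k W))) ?_
      ⟨1, (cenC ρ h).one_mem, fun w hw => mem_fixSp.1 hw.1⟩ ⟨c, hc, fun w hw => hy' w (mem_fixSp.1 hw.2)⟩ s w
      ⟨mem_fixSp.2 hx, mem_fixSp.2 hy⟩
    intro c hc w hw
    refine ⟨mem_fixSp.2 ?_, hinv c hc w hw.2⟩
    rw [cenC_rep hc, mem_fixSp.1 hw.1]
  · refine triv_sub hS hxy ρ (cenC ρ h) (cenC_comm ρ h) (negSp (ρ x) ⊓ fixSp (ρ y * (h : Module.End k W))) ?_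
      ⟨-1, neg_one_mem_cenC ρ h, fun w hw => mem_negSp.1 hw.1⟩ ⟨c, hc, fun w hw => hy' w (mem_fixSp.1 hw.2)⟩ s w
      ⟨mem_negSp.2 hx, mem_fixSp.2 hy⟩
    intro c hc w hw
    refine ⟨mem_negSp.2 ?_, hinv c hc w hw.2⟩
    rw [cenC_rep hc, mem_negSp.1 hw.1, map_neg]

/-- `[W, ρ x] + [W, ρ y * h] = W` -/
theorem com_top (hS : commutator S = ⊤) {x y : S} (hxy : Subgroup.closure ({x, y} : Set S) = ⊤)
    (ρ : Representation k S W) (hcom : ⨆ s, comSp (ρ s) = ⊤) {h : Module.End k W} (hu : IsUnit h)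
    (hh : ∀ s, ρ s * h = h * ρ s) : comSp (ρ x) ⊔ comSp (ρ y * h) = ⊤ := by
  obtain ⟨h, rfl⟩ := hu
  rw [eq_top_iff, ← hcom, iSup_le_iff]
  intro s w hw
  obtain ⟨v, rfl⟩ := mem_comSp.1 hw
  have hU : ∀ c ∈ cenC ρ h, ∀ w ∈ comSp (ρ x) ⊔ comSp (ρ y * (h : Module.End k W)),
      (c : Module.End k W) w ∈ comSp (ρ x) ⊔ comSp (ρ y * (h : Module.End k W)) := by
    intro c hc w hw
    obtain ⟨a, ha, b, hb, rfl⟩ := Submodule.mem_sup.1 hw
    obtain ⟨a, rfl⟩ := mem_comSp.1 ha
    obtain ⟨b, rfl⟩ := mem_comSp.1 hb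
    rw [map_add, map_sub, map_sub, ← cenC_rep hc, Module.End.mul_apply, ← cenC_rep hc, ← cenC_h hc]
    exact Submodule.add_mem_sup (sub_mem_comSp _ _) (sub_mem_comSp (ρ y * (h : Module.End k W)) _)
  refine triv_quot hS hxy ρ (cenC ρ h) (cenC_comm ρ h) _ hU
    ⟨1, (cenC ρ h).one_mem, fun w => Submodule.mem_sup_left (sub_mem_comSp _ _)⟩
    ⟨h⁻¹, (cenC ρ h).inv_mem (h_mem_cenC hh), fun w => Submodule.mem_sup_right ?_⟩ s v
  have := sub_mem_comSp (ρ y * (h : Module.End k W)) (((h⁻¹ : (Module.End k W)ˣ) : Module.End k W) w)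
  rwa [Module.End.mul_apply, unit_apply_inv] at this

theorem closure_mul_left {x y : S} (hxy : Subgroup.closure ({x, y} : Set S) = ⊤) :
    Subgroup.closure ({x, x * y} : Set S) = ⊤ := by
  rw [eq_top_iff, ← hxy, Subgroup.closure_le]
  have hx : x ∈ Subgroup.closure ({x, x * y} : Set S) := Subgroup.subset_closure (Set.mem_insert _ _)
  have hy : x * y ∈ Subgroup.closure ({x, x * y} : Set S) :=
    Subgroup.subset_closure (Set.mem_insert_of_mem _ rfl)
  rintro z (rfl | rfl)
  · exact hx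
  · have := Subgroup.mul_mem _ (Subgroup.inv_mem _ hx) hy
    rwa [inv_mul_cancel_left] at this

variable [FiniteDimensional k W]

/-- Scott's inequality for `ρ x` and `ρ y * h` (no assumption on the order of `x`) -/
theorem a1_scott (hS : commutator S = ⊤) {x y : S} (hxy : Subgroup.closure ({x, y} : Set S) = ⊤)
    (ρ : Representation k S W) (hfix : ∀ w, (∀ s, ρ s w = w) → w = 0) (hcom : ⨆ s, comSp (ρ s) = ⊤)
    {h : Module.End k W} (hu : IsUnit h) (hh : ∀ s, ρ s * h = h * ρ s) :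
    dfx (ρ x) + dfx (ρ y * h) + dfx (ρ (x * y) * h) ≤ finrank k W := by
  have := scott (ρ x) (ρ y * h) (fun w h1 h2 => no_common hS hxy ρ hfix hu hh w (Or.inl h1) h2)
    (com_top hS hxy ρ hcom hu hh)
  rwa [← mul_assoc, ← map_mul] at this

/-- `a + b ≤ e` -/
theorem a1_neg (hS : commutator S = ⊤) {x y : S} (hxy : Subgroup.closure ({x, y} : Set S) = ⊤) (hx : x ^ 2 = 1)
    (ρ : Representation k S W) (hfix : ∀ w, (∀ s, ρ s w = w) → w = 0) (hcom : ⨆ s, comSp (ρ s) = ⊤)
    {h : Module.End k W} (hu : IsUnit h) (hh : ∀ s, ρ s * h = h * ρ s) :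
    dfx (ρ y * h) + dfx (ρ (x * y) * h) ≤ finrank k (negSp (ρ x)) := by
  have h1 := a1_scott hS hxy ρ hfix hcom hu hh
  have h2 := finrank_comSp_add_dfx (ρ x)
  have h3 : finrank k (comSp (ρ x)) ≤ finrank k (negSp (ρ x)) :=
    Submodule.finrank_mono (comSp_le_negSp (by rw [← map_mul, ← pow_two, hx, map_one]))
  omega

/-- `a ≤ dim W - e` -/
theorem a1_le (hS : commutator S = ⊤) {x y : S} (hxy : Subgroup.closure ({x, y} : Set S) = ⊤)
    (ρ : Representation k S W) (hfix : ∀ w, (∀ s, ρ s w = w) → w = 0)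
    {h : Module.End k W} (hu : IsUnit h) (hh : ∀ s, ρ s * h = h * ρ s) :
    finrank k (negSp (ρ x)) + dfx (ρ y * h) ≤ finrank k W :=
  finrank_add_le_of_disjoint fun w h1 h2 =>
    no_common hS hxy ρ hfix hu hh w (Or.inr (mem_negSp.1 h1)) (mem_fixSp.1 h2)

/-- **Key lemma A1.** -/
theorem a1 (hS : commutator S = ⊤) {x y : S} (hxy : Subgroup.closure ({x, y} : Set S) = ⊤) (hx : x ^ 2 = 1)
    (ρ : Representation k S W) (hfix : ∀ w, (∀ s, ρ s w = w) → w = 0) (hcom : ⨆ s, comSp (ρ s) = ⊤)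
    {h : Module.End k W} (hu : IsUnit h) (hh : ∀ s, ρ s * h = h * ρ s) :
    3 * (dfx (ρ y * h) + dfx (ρ (x * y) * h)) ≤ 2 * finrank k W := by
  have h1 := a1_neg hS hxy hx ρ hfix hcom hu hh
  have h2 := a1_le hS hxy ρ hfix hu hh
  have h3 := a1_le hS (closure_mul_left hxy) ρ hfix hu hh
  omega

end perfect

end Cfsg.Agent.FP3

private theorem dce_6a9b302c2d6b : _root_.True := by
  try have : _root_.True := by simp only [_root_.Cfsg.Agent.FP3.fixSp.eq_1]
  try have : _root_.True := by simp only [_root_.Cfsg.Agent.FP3.comSp.eq_1]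
  try have : _root_.True := by simp only [_root_.Cfsg.Agent.FP3.negSp.eq_1]
  exact _root_.True.intro
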